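import Groth.Agent.QRegLib.Basic
import Mathlib.RingTheory.Localization.Away.Basic

/-!
Ideals generated by weakly regular sequences are of linear type.
-/

set_option autoImplicit false
set_option linter.style.haveILetI false

universe u

open MvPolynomial

namespace Groth.Agent.RRAlgLib

variable {A : Type u} [CommRing A]

/-- The ideal of linear syzygies. -/
noncomputable def syz {n : ℕ} (a : Fin n → A) : Ideal (MvPolynomial (Fin n) A) :=
  Ideal.span {q : MvPolynomial (Fin n) A | ∃ i j : Fin n,
    q = MvPolynomial.C (a i) * MvPolynomial.X j - MvPolynomial.C (a j) * MvPolynomial.X i}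

theorem syz_mem {n : ℕ} (a : Fin n → A) (i j : Fin n) : C (a i) * X j - C (a j) * X i ∈ syz a :=
  Ideal.subset_span ⟨i, j, rfl⟩

theorem exists_split {c m : ℕ} {P : MvPolynomial (Fin (c + 1)) A} (hP : P.IsHomogeneous (m + 1)) :
    ∃ (G : MvPolynomial (Fin c) A) (H : MvPolynomial (Fin (c + 1)) A), G.IsHomogeneous (m + 1) ∧
      H.IsHomogeneous m ∧ P = X (Fin.last c) * H + rename Fin.castSucc G := by
  classical
  let s : Fin (c + 1) →₀ ℕ := Finsupp.single (Fin.last c) 1
  let G := killCompl (Fin.castSucc_injective c) P
  let H := P.divMonomial s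
  refine ⟨G, H, ?_, ?_, ?_⟩
  · intro d hd
    rw [Finsupp.weight_apply]
    have := hP (show P.coeff (d.mapDomain Fin.castSucc) ≠ 0 by simpa [G, coeff_killCompl] using hd)
    rw [Finsupp.weight_apply, Finsupp.sum_mapDomain_index (by simp) (by simp [add_smul])] at this
    simpa using this
  · intro d hd
    have := hP (show P.coeff (s + d) ≠ 0 by simpa [H, coeff_divMonomial] using hd)
    simp only [map_add, s, Finsupp.weight_apply] at this ⊢
    rw [Finsupp.sum_single_index (by simp)] at this
    simp at this ⊢
    omega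
  · suffices hmod : rename Fin.castSucc G = P.modMonomial s by
      rw [hmod]
      exact (divMonomial_add_modMonomial_single P (Fin.last c)).symm
    ext d
    by_cases hd : s ≤ d
    · rw [coeff_modMonomial_of_le _ hd]
      refine coeff_rename_eq_zero _ _ _ fun e he' => ?_
      exfalso
      have h1 : 1 ≤ d (Fin.last c) := by
        have := hd (Fin.last c)
        simpa [s] using this
      rw [← he', Finsupp.mapDomain_of_notMem_range] at h1
      · omega
      · simp [Fin.exists_castSucc_eq]
    · rw [coeff_modMonomial_of_not_le _ hd]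
      have hd0 : d (Fin.last c) = 0 := by
        by_contra h
        exact hd (Finsupp.single_le_iff.mpr (Nat.one_le_iff_ne_zero.mpr h))
      have hsub : (d.support : Set (Fin (c + 1))) ⊆ Set.range Fin.castSucc := by
        intro i hi
        rcases Fin.eq_castSucc_or_eq_last i with ⟨j, rfl⟩ | rfl
        · exact ⟨j, rfl⟩
        · exact absurd hd0 (by simpa using hi)
      obtain ⟨e, rfl⟩ : ∃ e, Finsupp.mapDomain Fin.castSucc e = d :=
        ⟨_, Finsupp.mapDomain_comapDomain Fin.castSucc (Fin.castSucc_injective c) d hsub⟩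
      rw [coeff_rename_mapDomain _ (Fin.castSucc_injective c), coeff_killCompl]

theorem eq_C_of_isHomogeneous_zero {σ : Type*} {P : MvPolynomial σ A} (hP : P.IsHomogeneous 0) :
    P = C (P.coeff 0) := by
  classical
  ext e
  rw [coeff_C]
  split_ifs with h
  · rw [h]
  · exact hP.coeff_eq_zero (by rw [Ne, Finsupp.degree_eq_zero_iff]; exact fun h' => h h'.symm)

theorem mem_syz_of_eval_eq_zero : ∀ (n : ℕ) (a : Fin n → A),
    RingTheory.Sequence.IsWeaklyRegular A (List.ofFn a) →
      ∀ (m : ℕ) (P : MvPolynomial (Fin n) A), P.IsHomogeneous m → eval a P = 0 → P ∈ syz a := by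
  intro n
  induction n with
  | zero =>
    intro a _ m P _ he
    rw [P.eq_C_of_isEmpty, eval_C] at he
    rw [P.eq_C_of_isEmpty, he, map_zero]
    exact zero_mem _
  | succ c ih =>
    intro f hf
    have hlist : List.ofFn f = List.ofFn (f ∘ Fin.castSucc) ++ [f (Fin.last c)] := by
      rw [List.ofFn_succ', List.concat_eq_append]; rfl
    rw [hlist, RingTheory.Sequence.isWeaklyRegular_append_iff] at hf
    obtain ⟨hf', hlast⟩ := hf
    rw [RingTheory.Sequence.isWeaklyRegular_singleton_iff] at hlast
    set g := f (Fin.last c) with hgdef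
    set R' := Ideal.span (Set.range (f ∘ Fin.castSucc)) with hR'
    have hJg : (Ideal.ofList (List.ofFn (f ∘ Fin.castSucc)) • ⊤ : Submodule A A) = R' := by
      rw [smul_eq_mul, Ideal.mul_top, Ideal.ofList, hR']
      congr 1
      ext x
      simp [List.mem_ofFn]
    have hg : ∀ y, g * y ∈ R' → y ∈ R' := fun y hy => by
      rw [← hJg] at hy ⊢
      exact (Submodule.Quotient.mk_eq_zero _).mp (hlast.right_eq_zero_of_smul
        (by rw [← Submodule.Quotient.mk_smul]; exact (Submodule.Quotient.mk_eq_zero _).mpr hy))
    have hq := Groth.Agent.QRegLib.isQuasiRegular_of_isWeaklyRegular c _ hf'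
    have hmap : (syz (f ∘ Fin.castSucc)).map (rename Fin.castSucc) ≤ syz f := by
      rw [syz, Ideal.map_span, Ideal.span_le]
      rintro _ ⟨_, ⟨i, j, rfl⟩, rfl⟩
      simpa using syz_mem f i.castSucc j.castSucc
    intro m
    induction m with
    | zero =>
      intro P hP he
      rw [eq_C_of_isHomogeneous_zero hP, eval_C] at he
      rw [eq_C_of_isHomogeneous_zero hP, he, map_zero]
      exact zero_mem _
    | succ m ihm =>
      intro P hP he
      obtain ⟨G, H, hG, hH, rfl⟩ := exists_split hP
      rw [map_add, map_mul, eval_X, eval_rename] at he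
      have h1 : g * eval f H ∈ R' ^ (m + 1) := by
        rw [eq_neg_of_add_eq_zero_left he]
        exact neg_mem ((Ideal.mem_span_pow_iff_exists_isHomogeneous _ _).mpr ⟨G, hG, rfl⟩)
      have h2 := Groth.Agent.QRegLib.mem_pow_of_mul_mem _ hq g hg _ _ h1
      rw [pow_succ'] at h2
      -- write the value of `H` as a combination of the first elements
      obtain ⟨Q, hQ, hQe⟩ : ∃ Q : Fin c → MvPolynomial (Fin c) A, (∀ i, (Q i).IsHomogeneous m) ∧
          eval f H = ∑ i, f i.castSucc * eval (f ∘ Fin.castSucc) (Q i) := by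
        refine Submodule.mul_induction_on' (C := fun y _ => ∃ Q : Fin c → MvPolynomial (Fin c) A,
          (∀ i, (Q i).IsHomogeneous m) ∧ y = ∑ i, f i.castSucc * eval (f ∘ Fin.castSucc) (Q i)) ?_ ?_ h2
        · intro x hx y hy
          obtain ⟨r, rfl⟩ := Ideal.mem_span_range_iff_exists_fun.mp hx
          obtain ⟨Y, hY, rfl⟩ := (Ideal.mem_span_pow_iff_exists_isHomogeneous _ _).mp hy
          refine ⟨fun i => C (r i) * Y, fun i => hY.C_mul _, ?_⟩
          rw [Finset.sum_mul]
          exact Finset.sum_congr rfl fun i _ => by simp; ring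
        · rintro x _ y _ ⟨Q, hQ, rfl⟩ ⟨Q', hQ', rfl⟩
          exact ⟨fun i => Q i + Q' i, fun i => (hQ i).add (hQ' i),
            by simp [mul_add, Finset.sum_add_distrib]⟩
      let H' := H - ∑ i, C (f i.castSucc) * rename Fin.castSucc (Q i)
      have hH' : H' ∈ syz f := ihm H'
        (hH.sub (IsHomogeneous.sum _ _ _ fun i _ => ((hQ i).rename_isHomogeneous).C_mul _)) (by
          simp only [H', map_sub, map_sum, map_mul, eval_C, eval_rename, ← hQe, sub_self])
      let T := G + C g * ∑ i, X i * Q i
      have hT : T ∈ syz (f ∘ Fin.castSucc) := ih _ hf' (m + 1) T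
        (hG.add ((IsHomogeneous.sum _ _ _ fun i _ => by
          rw [add_comm m 1]; exact (isHomogeneous_X A i).mul (hQ i)).C_mul g)) (by
          simp only [T, map_add, map_mul, eval_C, map_sum, eval_X]
          rw [← he, hQe]
          simp only [Function.comp_apply]
          ring)
      have hT' := hmap (Ideal.mem_map_of_mem _ hT)
      have e : X (Fin.last c) * H + rename Fin.castSucc G = X (Fin.last c) * H' + rename Fin.castSucc T +
          ∑ i, (C (f i.castSucc) * X (Fin.last c) - C g * X i.castSucc) * rename Fin.castSucc (Q i) := by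
        simp only [H', T, map_add, map_mul, map_sum, rename_C, rename_X, sub_mul, Finset.sum_sub_distrib,
          mul_sub, Finset.mul_sum, mul_assoc, mul_left_comm, mul_comm]
        ring
      rw [e]
      refine add_mem (add_mem (Ideal.mul_mem_left _ _ hH') hT') (Ideal.sum_mem _ fun i _ => ?_)
      exact Ideal.mul_mem_right _ _ (syz_mem f i.castSucc (Fin.last c))

theorem coeff_aeval_rees {n : ℕ} (a : Fin n → A) (P : MvPolynomial (Fin n) A) (d : ℕ) :
    (aeval (fun i : Fin n => Polynomial.C (a i) * (Polynomial.X : Polynomial A)) P).coeff d =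
      eval a (homogeneousComponent d P) := by
  classical
  induction P using MvPolynomial.induction_on' with
  | monomial e r =>
    rw [aeval_monomial, homogeneousComponent_of_mem (isHomogeneous_monomial r rfl)]
    have : e.prod (fun i j => (Polynomial.C (a i) * (Polynomial.X : Polynomial A)) ^ j) =
        Polynomial.C (e.prod fun i j => a i ^ j) * Polynomial.X ^ e.degree := by
      simp only [Finsupp.prod, mul_pow, Finset.prod_mul_distrib, map_prod, map_pow,
        Finset.prod_pow_eq_pow_sum, Finsupp.degree_apply]
    rw [this, Polynomial.algebraMap_eq, ← mul_assoc, ← map_mul, Polynomial.coeff_C_mul_X_pow]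
    split_ifs <;> simp [eval_monomial]
  | add p q hp hq => simp only [map_add, Polynomial.coeff_add, hp, hq]

theorem ker_rees {n : ℕ} (a : Fin n → A) (ha : RingTheory.Sequence.IsWeaklyRegular A (List.ofFn a)) :
    RingHom.ker (MvPolynomial.aeval (R := A)
      (fun i : Fin n => Polynomial.C (a i) * (Polynomial.X : Polynomial A))) = syz a := by
  refine le_antisymm (fun P hP => ?_) ?_
  · rw [← sum_homogeneousComponent P]
    refine Ideal.sum_mem _ fun d _ => mem_syz_of_eval_eq_zero n a ha d _ (homogeneousComponent_isHomogeneous d P) ?_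
    rw [← coeff_aeval_rees, RingHom.mem_ker.1 hP, Polynomial.coeff_zero]
  · rw [syz, Ideal.span_le]
    rintro _ ⟨i, j, rfl⟩
    simp only [SetLike.mem_coe, RingHom.mem_ker, map_sub, map_mul, aeval_C, aeval_X, Polynomial.algebraMap_eq]
    ring

theorem ker_affineBlowup {n : ℕ} (a : Fin (n + 1) → A)
    (ha : RingTheory.Sequence.IsWeaklyRegular A (List.ofFn a)) :
    RingHom.ker (MvPolynomial.aeval (R := A) (S₁ := Localization.Away (a 0))
      (fun i : Fin n => IsLocalization.mk' (Localization.Away (a 0)) (a i.succ)
        (⟨a 0, Submonoid.mem_powers (a 0)⟩ : Submonoid.powers (a 0)))) =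
      Ideal.span (Set.range fun i : Fin n =>
        MvPolynomial.C (a 0) * MvPolynomial.X i - MvPolynomial.C (a i.succ)) := by
  classical
  set J := Ideal.span (Set.range fun i : Fin n =>
    MvPolynomial.C (a 0) * MvPolynomial.X i - MvPolynomial.C (a i.succ)) with hJ
  set t : Fin n → Localization.Away (a 0) := fun i => IsLocalization.mk' (Localization.Away (a 0)) (a i.succ)
    (⟨a 0, Submonoid.mem_powers (a 0)⟩ : Submonoid.powers (a 0)) with ht
  have ht' : ∀ i, algebraMap A (Localization.Away (a 0)) (a 0) * t i = algebraMap A _ (a i.succ) := fun i =>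
    IsLocalization.mk'_spec' (Localization.Away (a 0)) (a i.succ)
      (⟨a 0, Submonoid.mem_powers (a 0)⟩ : Submonoid.powers (a 0))
  refine le_antisymm (fun F hF => ?_) ?_
  · have hreg : IsSMulRegular A (a 0) := by
      rw [List.ofFn_succ, RingTheory.Sequence.isWeaklyRegular_cons_iff] at ha
      exact ha.1
    have hinj : Function.Injective (algebraMap A (Localization.Away (a 0))) :=
      IsLocalization.injective _ (Submonoid.powers_le.2 (mem_nonZeroDivisors_iff_right.2 fun x hx =>
        hreg.right_eq_zero_of_smul (by rw [smul_eq_mul, mul_comm]; exact hx)))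
    let N := F.totalDegree
    let Fh : MvPolynomial (Fin (n + 1)) A :=
      ∑ d ∈ F.support, monomial (Finsupp.cons (N - d.degree) d) (F.coeff d)
    have hN : ∀ d ∈ F.support, d.degree ≤ N := fun d hd => by
      simpa [Finsupp.degree_apply, Finsupp.sum] using le_totalDegree hd
    have hFh : Fh.IsHomogeneous N := IsHomogeneous.sum _ _ _ fun d hd => isHomogeneous_monomial _ (by
      rw [Finsupp.degree_eq_sum, Fin.sum_univ_succ]
      simp only [Finsupp.cons_zero, Finsupp.cons_succ, ← Finsupp.degree_eq_sum]
      have := hN d hd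
      omega)
    have hde : (aeval (Fin.cons 1 X : Fin (n + 1) → MvPolynomial (Fin n) A)) Fh = F := by
      conv_rhs => rw [F.as_sum]
      simp only [Fh, map_sum, aeval_monomial]
      refine Finset.sum_congr rfl fun d _ => ?_
      rw [Finsupp.prod_fintype _ _ (by simp), Fin.prod_univ_succ]
      simp only [Fin.cons_zero, one_pow, one_mul, Fin.cons_succ, Finsupp.cons_succ]
      rw [monomial_eq, Finsupp.prod_fintype _ _ (by simp), algebraMap_eq]
    have hev : eval a Fh = 0 := by
      apply hinj
      have h0 : algebraMap A (Localization.Away (a 0)) (a 0) ^ N * aeval t F = 0 := by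
        rw [RingHom.mem_ker.1 hF, mul_zero]
      rw [map_zero, ← h0, aeval_def, eval₂_eq', Finset.mul_sum]
      simp only [Fh, map_sum, eval_monomial, map_mul]
      refine Finset.sum_congr rfl fun d hd => ?_
      rw [Finsupp.prod_fintype _ _ (by simp), Fin.prod_univ_succ]
      simp only [map_mul, map_prod, map_pow, Finsupp.cons_zero, Finsupp.cons_succ, ← ht', mul_pow,
        Finset.prod_mul_distrib, Finset.prod_pow_eq_pow_sum]
      rw [← Finsupp.degree_eq_sum, ← mul_assoc (_ ^ (N - d.degree)), ← pow_add, Nat.sub_add_cancel (hN d hd)]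
      ring
    have := Ideal.mem_map_of_mem (aeval (Fin.cons 1 X : Fin (n + 1) → MvPolynomial (Fin n) A))
      (mem_syz_of_eval_eq_zero _ a ha N Fh hFh hev)
    rw [hde, syz, Ideal.map_span] at this
    refine Ideal.span_le.2 ?_ this
    rintro _ ⟨_, ⟨i, j, rfl⟩, rfl⟩
    have hgen : ∀ i, C (a 0) * X i - C (a i.succ) ∈ J := fun i => Ideal.subset_span ⟨i, rfl⟩
    simp only [SetLike.mem_coe, map_sub, map_mul, aeval_C, aeval_X, algebraMap_eq]
    cases i using Fin.cases with
    | zero =>
      cases j using Fin.cases with
      | zero => simp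
      | succ j => simpa using hgen j
    | succ i =>
      cases j using Fin.cases with
      | zero => simpa using neg_mem (hgen i)
      | succ j =>
        simp only [Fin.cons_succ]
        rw [show C (a i.succ) * X j - C (a j.succ) * X i = (C (a 0) * X j - C (a j.succ)) * X i -
          (C (a 0) * X i - C (a i.succ)) * X j by ring]
        exact sub_mem (J.mul_mem_right _ (hgen j)) (J.mul_mem_right _ (hgen i))
  · rw [hJ, Ideal.span_le]
    rintro _ ⟨i, rfl⟩
    simp only [SetLike.mem_coe, RingHom.mem_ker, map_sub, map_mul, aeval_C, aeval_X]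
    rw [sub_eq_zero]
    exact ht' i

end Groth.Agent.RRAlgLib
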